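import Groth.Agent.StFib.DiagCover
import Groth.Agent.StFib.WellNighAffine
import Groth.Agent.StFib.EndTrans
import Groth.Agent.StFib.Affine
import Groth.Agent.AlgSp.AffineMor

/-!
Descent of properties of representable morphisms along affine, flat and surjective morphisms, and
affineness of the diagonal from an affine flat chart with affine diagonal.
-/

set_option autoImplicit false
set_option backward.isDefEq.respectTransparency false
set_option backward.isDefEq.respectTransparency.types false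

universe u

open CategoryTheory CategoryTheory.Limits AlgebraicGeometry Opposite FibCat

namespace Groth.Agent.ResPropLib

open Groth.Agent.StFib

variable {S : Scheme.{u}} {𝒳 𝒴 𝒵 : AlgSt.Cat S}

/-- An affine, flat, surjective morphism has sections over affine, flat, surjective covers of the base. -/
theorem exists_affine_lift {g : 𝒵 ⥤ᵇ 𝒴} (hga : AlgSt.RepByAlgSpWith AlgSp.IsAffineMor g)
    (hgf : AlgSt.RepByAlgSpWith (AlgSp.LocP @Flat) g) (hgs : AlgSt.RepByAlgSpWith AlgSp.IsSurjectiveMor g)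
    (U : Over S) (y : overCat U ⥤ᵇ 𝒴) :
    ∃ (V : Over S) (h : V ⟶ U) (z : overCat V ⥤ᵇ 𝒵), IsAffineHom h.left ∧ Flat h.left ∧ Surjective h.left ∧
      Nonempty (BasedFunctor.comp z g ≅ BasedFunctor.comp (AlgSt.overMap h) y) := by
  obtain ⟨B, eB, heB, hB⟩ := hga U y
  have hr := (Groth.Agent.AlgSp.isAffineMor_iff _).1 hB
  obtain ⟨V, i, fst, sq⟩ := hr.1 (𝟙 ((AlgSp.yon S).obj U))
  have := sq.isIso_fst_of_isIso
  let E : AlgSt.ofSch V ⥤ᵇ fp y g := BasedFunctor.comp (AlgSt.ofSpMap (asIso fst).hom) eB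
  have hE : IsEquivOver E := isEquivOver_comp (isEquivOver_ofSpMap_iso (asIso fst)) heB
  let w : overCat V ⥤ᵇ fp y g := BasedFunctor.comp (AlgSt.ofOverCat V) E
  have hw : IsEquivOver w := isEquivOver_comp ⟨AlgSt.toOverCat _, ⟨Iso.refl _⟩, ⟨Iso.refl _⟩⟩ hE
  obtain ⟨h, ⟨ih⟩⟩ := exists_iso_overMap (BasedFunctor.comp w (fpFst y g))
  have step : ∀ Q : MorphismProperty (AlgSp.Sp S), AlgSt.RepByAlgSpWith Q g →
      AlgSt.RepByAlgSpWith Q (AlgSt.overMap h) := fun Q hQ =>
    (repByAlgSpWith_iff_of_equiv Q w (BasedFunctor.id _) hw (isEquivOver_id _)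
      (f := fpFst y g) (f' := AlgSt.overMap h) ih.symm).1 (repByAlgSpWith_fpFst Q y hQ)
  have hflat := mem_scheme_of_overMap Groth.Agent.AlgSpCov.standard_flat (step _ hgf)
  have hsurj := surjective_of_overMap (step _ hgs)
  have haff : IsAffineHom h.left := by
    have h1 : AlgSt.RepByAlgSpWith AlgSp.IsAffineMor (AlgSt.ofSpMap ((AlgSp.yon S).map h)) :=
      (repByAlgSpWith_iff_of_equiv _ (AlgSt.toOverCat V) (AlgSt.toOverCat U)
        (toOverCat_isEquivOver V) (toOverCat_isEquivOver U) (toOverCatIso h)).1 (step _ hga)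
    exact (AlgSp.repWith_yon_map_iff _ _).1 ((Groth.Agent.AlgSp.isAffineMor_iff _).1
      (mem_of_repByAlgSpWith_ofSpMap good_affine.bc good_affine.det (isAlgSpace_yon V) (isAlgSpace_yon U) _ h1))
  exact ⟨V, h, BasedFunctor.comp w (fpSnd y g), haff, hflat, hsurj,
    ⟨isoWhiskerLeft w (fpIso y g).symm ≪≫ isoWhiskerRight ih y⟩⟩

/-- Properties local for fpqc coverings descend along affine, flat, surjective morphisms. -/
theorem repByAlgSpWith_of_affine_cover {P : MorphismProperty (AlgSp.Sp S)} (hPb : StableBC P)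
    (hdet : DetectedOnSchemes P) (hP : AlgSp.IsLocalOnBase AlgSp.IsFpqcCover P) {f : 𝒳 ⥤ᵇ 𝒴}
    (hf : AlgSt.RepByAlgSp1 f) {g : 𝒵 ⥤ᵇ 𝒴} (hga : AlgSt.RepByAlgSpWith AlgSp.IsAffineMor g)
    (hgf : AlgSt.RepByAlgSpWith (AlgSp.LocP @Flat) g) (hgs : AlgSt.RepByAlgSpWith AlgSp.IsSurjectiveMor g)
    (h' : AlgSt.RepByAlgSpWith P (fpFst g f)) : AlgSt.RepByAlgSpWith P f := by
  intro U y
  obtain ⟨A, e, he⟩ := hf U y
  refine ⟨A, e, he, ?_⟩
  obtain ⟨V, h, z, ha, hfl, hs, ⟨i⟩⟩ := exists_affine_lift hga hgf hgs U y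
  refine (hP (fun _ : PUnit.{u + 1} => (AlgSp.yon S).obj V) (fun _ => (AlgSp.yon S).map h) (isAlgSpace_yon U)
    (fun _ => isAlgSpace_yon _) ⟨fun _ => ?_, fun Z hZ k => ?_⟩ _ A.property
    (fun _ => pullback _ ((AlgSp.yon S).map h))
    (fun _ => pullback.snd _ _) (fun _ => pullback.fst _ _)
    (fun _ => Groth.Agent.AlgSp.isAlgSpace_pullback (isAlgSpace_yon U) A.property (isAlgSpace_yon _) _ _)
    (fun _ => IsPullback.of_hasPullback _ _)).2 fun _ => mem_pullback_of_lift hPb hdet h' A e he h z i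
  · exact Groth.Agent.AlgSpCov.locP_of_repWith Groth.Agent.AlgSpCov.etaleLocal_flat
      ((AlgSp.repWith_yon_map_iff _ _).2 hfl)
  · obtain ⟨k, rfl⟩ := (AlgSp.yon S).map_surjective k
    have sq := (IsPullback.of_hasPullback h k).map (Over.forget S)
    have : IsAffineHom (pullback.snd h k).left := MorphismProperty.of_isPullback sq ha
    have : Flat (pullback.snd h k).left := MorphismProperty.of_isPullback sq hfl
    have hsu : Surjective (pullback.snd h k).left := MorphismProperty.of_isPullback sq hs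
    refine ⟨1, fun _ => pullback h k, fun _ => pullback.snd h k,
      fun _ => isAffine_of_isAffineHom (pullback.snd h k).left, fun _ => inferInstance,
      fun z => ⟨0, hsu.surj z⟩, fun _ => ⟨⟨⟩, (AlgSp.yon S).map (pullback.fst h k), ?_⟩⟩
    rw [← Functor.map_comp, ← Functor.map_comp, pullback.condition]

/-- Affine diagonal, as a property of morphisms of sheaves. -/
def AffDiag : MorphismProperty (AlgSp.Sp S) :=
  MorphismProperty.diagonal (AlgSp.RepWith @IsAffineHom)

theorem stableBC_affDiag : StableBC (AffDiag (S := S)) := by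
  intro X₁ Y₁ X₂ Y₂ _ _ _ _ a b a' b' sq h
  exact MorphismProperty.of_isPullback (P := MorphismProperty.diagonal (AlgSp.RepWith @IsAffineHom)) sq h

theorem isAffineMor_of_comp {A B C : AlgSp.Sp S} (a : A ⟶ B) (b : B ⟶ C) (hb : AffDiag b)
    (hab : AlgSp.IsAffineMor (a ≫ b)) : AlgSp.IsAffineMor a := by
  have h1 : AlgSp.IsAffineMor (pullback.lift (𝟙 A) a (by simp) : A ⟶ pullback (a ≫ b) b) :=
    (Groth.Agent.AlgSp.isAffineMor_iff _).2
      (MorphismProperty.of_isPullback (pullback_lift_diagonal_isPullback a b) hb)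
  have h2 : AlgSp.IsAffineMor (pullback.snd (a ≫ b) b) :=
    (Groth.Agent.AlgSp.isAffineMor_iff _).2
      (MorphismProperty.of_isPullback (IsPullback.of_hasPullback (a ≫ b) b)
        ((Groth.Agent.AlgSp.isAffineMor_iff _).1 hab))
  have h3 : AlgSp.IsAffineMor (pullback.lift (𝟙 A) a (by simp) ≫ pullback.snd (a ≫ b) b) := by
    intro Z hZ g
    obtain ⟨W₁, i₁, f₁, sq₁, hW₁⟩ := h2 hZ g
    obtain ⟨W₂, i₂, f₂, sq₂, hW₂⟩ := h1 hW₁ f₁
    exact ⟨W₂, i₂ ≫ i₁, f₂, by rw [Functor.map_comp]; exact sq₂.paste_vert sq₁, hW₂⟩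
  rwa [pullback.lift_snd] at h3

theorem rep_affDiag_toSelf_overCat (U : Over S) (hU : IsAffineHom (pullback.diagonal U.hom)) :
    AlgSt.RepByAlgSpWith AffDiag (toSelf (overCat U)) := by
  let T₀ : Over S := Over.mk (𝟙 S)
  let E : overCat T₀ ⥤ᵇ selfOver (C := Over S) := toSelf (overCat T₀)
  have hu : ∀ {T : Over S} (a b : T ⟶ T₀), a = b := fun a b =>
    Over.OverMorphism.ext (((Category.comp_id _).symm.trans (over_w a)).trans
      ((over_w b).symm.trans (Category.comp_id _)))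
  have : E.toFunctor.Faithful := ⟨fun h => Over.OverMorphism.ext h⟩
  have : E.toFunctor.Full := ⟨fun {a b} g => ⟨Over.homMk g (hu _ _), rfl⟩⟩
  have hE : IsEquivOver E := isEquivOver_mk _ fun (T : Over S) =>
    ⟨Over.mk (Over.homMk T.hom (Category.comp_id _) : T ⟶ T₀), Iso.refl _, Vert.id _⟩
  let h : U ⟶ T₀ := Over.homMk U.hom (Category.comp_id _)
  have h1 : AlgSt.RepByAlgSpWith AffDiag (AlgSt.overMap h) :=
    (repByAlgSpWith_iff_of_equiv _ (AlgSt.toOverCat U) (AlgSt.toOverCat T₀)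
      (toOverCat_isEquivOver U) (toOverCat_isEquivOver T₀) (toOverCatIso h)).2
      (repByAlgSpWith_ofSpMap stableBC_affDiag (isAlgSpace_yon U) (isAlgSpace_yon T₀) _
        ((AlgSp.repWith_diagonal_yon_map_iff _ h).2 hU))
  obtain ⟨d, hd, ⟨q⟩, -⟩ := isEquivOver_symm hE
  exact (repByAlgSpWith_iff_of_equiv _ (BasedFunctor.id _) d (isEquivOver_id _) hd
    (f := AlgSt.overMap h) (f' := toSelf (overCat U)) (isoWhiskerLeft (AlgSt.overMap h) q)).1 h1

/-- An affine, flat, surjective chart from a scheme with affine diagonal gives affine diagonal. -/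
theorem diag_affine_of_affine_chart (hloc : AlgSp.IsLocalOnBase AlgSp.IsFpqcCover (AlgSp.IsAffineMor (S := S)))
    (hg : IsFibGrpd 𝒳.p) (hd : AlgSt.RepByAlgSp1 (diag (toSelf 𝒳)))
    {U : Over S} (hU : IsAffineHom (pullback.diagonal U.hom)) {x : overCat U ⥤ᵇ 𝒳}
    (h1 : AlgSt.RepByAlgSpWith (AlgSp.LocP @Flat) x)
    (hxs : AlgSt.RepByAlgSpWith AlgSp.IsSurjectiveMor x)
    (h3 : AlgSt.RepByAlgSpWith AlgSp.IsAffineMor x) :
    AlgSt.RepByAlgSpWith AlgSp.IsAffineMor (diag (toSelf 𝒳)) := by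
  let t := toSelf 𝒳
  refine repByAlgSpWith_of_affine_cover good_affine.bc good_affine.det hloc hd
    (repByAlgSpWith_compPhi _ good_affine hg h3)
    (repByAlgSpWith_compPhi _ (good_locP Groth.Agent.AlgSpCov.standard_flat) hg h1)
    (repByAlgSpWith_compPhi _ good_surjective hg hxs) ?_
  let u : fp x x ⥤ᵇ fp (BasedFunctor.comp x t) (BasedFunctor.comp x t) :=
    fpLift (fpFst x x) (fpSnd x x) (isoWhiskerRight (fpIso x x) t)
  have hcart := comp_cart x x t (isoWhiskerRight (fpIso x x) t) fun _ => rfl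
  refine (repByAlgSpWith_iff_of_equiv _ _ (BasedFunctor.id _) hcart (isEquivOver_id _)
    (f := fpFst (compPhi x x t) (diag t)) (f' := u) (Iso.refl _)).2 ?_
  obtain ⟨j⟩ := exists_iso_toSelf (BasedFunctor.comp x t)
  refine repByAlgSpWith_cancel (Q := AffDiag) good_affine.bc
    (fun A B C _ _ _ a b hb hab => isAffineMor_of_comp a b hb hab)
    (q := fpFst (BasedFunctor.comp x t) (BasedFunctor.comp x t))
    (repByAlgSpWith_fpFst _ _ (repByAlgSpWith_of_iso _ j.symm (rep_affDiag_toSelf_overCat U hU))) ?_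
  exact repByAlgSpWith_fpFst _ x h3

end Groth.Agent.ResPropLib
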