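import Groth.Agent.StFib.QuotBridgeMap
import Groth.Agent.StFib.QuotEtaleDiag
import Groth.Agent.StFib.AutRepChart
import Groth.Agent.StFib.DiagConv
import Groth.Agent.AlgSpCov.QAffineDescent
import Mathlib.AlgebraicGeometry.QuasiAffine

/-!
Diagonals of quotient stacks under affine groups: quasi-affine, and the affine criterion.

The proof of `spQuot_diag_of_affine` is that of `StFib.SpTors.repByAlgSpWith_diag` with the
composition hypothesis weakened to composition with affine morphisms.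
-/

set_option autoImplicit false
set_option linter.unusedVariables false
set_option backward.isDefEq.respectTransparency false
set_option backward.isDefEq.respectTransparency.types false
set_option maxHeartbeats 1600000

universe u

open CategoryTheory CategoryTheory.Limits AlgebraicGeometry Opposite MonoidalCategory CartesianMonoidalCategory
  MonObj FibCat

namespace Groth.Agent.ResPropLib

open Groth.Agent.StFib Groth.Agent.StFib.SpTors
open Groth.Agent.AlgSp (yEquiv yEquiv_map yEquiv_comp hom_ext_yon)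

section

variable {S : Scheme.{u}} {B : AlgSp.Sp S} {G : Over B} [GrpObj G]

local notation "K" => Scheme.fppfPrecoverage

/-- The diagonal of a quotient stack by an affine group has the properties of the diagonal of the space. -/
theorem spQuot_diag_of_affine {X : Over B} {aX : AlgSp.GAction G X}
    {P : MorphismProperty (AlgSp.Sp S)} (hbc : StableBC P)
    (hcomp : ∀ ⦃A C D : AlgSp.Sp S⦄ (a : A ⟶ C) (b : C ⟶ D), P a → AlgSp.IsAffineMor b → P (a ≫ b))
    (hloc : AlgSp.IsLocalOnBase AlgSp.IsFppfCover P)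
    (hB : AlgSp.IsAlgSpace B) (hG : AlgSp.IsAlgSpace G.left) (hP : AlgSp.IsAffineMor G.hom)
    (hX : AlgSp.IsAlgSpace X.left) (hXX : AlgSp.IsAlgSpace (X.left ⨯ X.left))
    (hΔ : P (prod.lift (𝟙 X.left) (𝟙 X.left))) :
    AlgSt.RepByAlgSpWith P (diag (toSelf (AlgSt.SpQuotSt K G aX))) := by
  intro U z
  let x₁ : overCat U ⥤ᵇ AlgSt.SpQuotSt K G aX := BasedFunctor.comp z (fpFst _ _)
  let x₂ : overCat U ⥤ᵇ AlgSt.SpQuotSt K G aX := BasedFunctor.comp z (fpSnd _ _)
  obtain ⟨e, he, hk⟩ := Isom.exists_fp_diag (𝒳 := AlgSt.SpQuotSt K G aX) isFibGrpd morGlue' z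
  let πI : isom x₁ x₂ ⟶ (AlgSp.yon S).obj U :=
    AlgSt.spMapOfOver (BasedFunctor.comp e (fpFst z (diag (toSelf (AlgSt.SpQuotSt K G aX)))))
  have hπ : ∀ {W : Over S} (x : (AlgSp.yon S).obj W ⟶ isom x₁ x₂),
      x ≫ πI = (AlgSp.yon S).map (yEquiv x : Isom.Pt x₁ x₂ W).k := fun {W} x => by
    apply yEquiv.injective
    apply ULift.ext
    exact (hk ⟨W, yEquiv x⟩).trans (Category.id_comp _).symm
  let eU : (AlgSp.yon S).obj (chartObj x₁).base ≅ (AlgSp.yon S).obj U :=
    (AlgSp.yon S).mapIso (eqToIso (x₁.w_obj (Over.mk (𝟙 U))))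
  obtain ⟨J₀, V, f, s, hs, hcov⟩ := exists_cover_secs (chartObj x₁)
  let f' : ∀ i, V i ⟶ U := fun i => f i ≫ eqToHom (x₁.w_obj (Over.mk (𝟙 U)))
  have hs' : ∀ i, s i ≫ chartπ x₁ = (AlgSp.yon S).map (f' i) := fun i => by
    rw [chartπ, ← Category.assoc, hs, ← Functor.map_comp]
  choose top hsq using fun i => isom_k πI hπ (f' i) (s i) (hs' i)
  let l₂ := prod.lift (chartπ x₂) (chartObj x₂).φ.left
  let l₁ : ∀ i, _ := fun i => prod.lift ((AlgSp.yon S).map (f' i)) (s i ≫ (chartObj x₁).φ.left)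
  have hA₂ : AlgSp.IsAlgSpace (chartObj x₂).P.left := isAlgSpace_torsor hB hG _
  have hP₂ : AlgSp.IsAffineMor (chartπ x₂) := by
    have sq : IsPullback (𝟙 _) (chartπ x₂) (chartObj x₂).π.left
        ((AlgSp.yon S).map (eqToHom (x₂.w_obj (Over.mk (𝟙 U))).symm)) :=
      IsPullback.of_horiz_isIso ⟨by
        rw [Category.id_comp, chartπ, Category.assoc, ← Functor.map_comp, eqToHom_trans, eqToHom_refl,
          CategoryTheory.Functor.map_id]
        exact (Category.comp_id _).symm⟩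
    exact good_affine.bc hA₂ (isAlgSpace_yon _) hA₂ (isAlgSpace_yon _) _ _ _ _ sq
      (prop_torsor good_affine.bc QuotBr.fppfLocal_affine hB hG hP (chartObj x₂))
  have hpiece : ∀ i, AlgSp.IsAlgSpace (pullback l₂ (l₁ i)) ∧ P (pullback.snd l₂ (l₁ i)) := fun i => by
    let yf := (AlgSp.yon S).map (f' i)
    let Q := pullback (chartπ x₂) yf
    have hQ : AlgSp.IsAlgSpace Q := Groth.Agent.AlgSp.isAlgSpace_pullback (isAlgSpace_yon U) hA₂ (isAlgSpace_yon _) _ _
    let t : Q ⟶ X.left ⨯ X.left := prod.lift (pullback.fst (chartπ x₂) yf ≫ (chartObj x₂).φ.left)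
      (pullback.snd (chartπ x₂) yf ≫ s i ≫ (chartObj x₁).φ.left)
    have c := pullback.condition (f := l₂) (g := l₁ i)
    have c1 : pullback.fst l₂ (l₁ i) ≫ chartπ x₂ = pullback.snd l₂ (l₁ i) ≫ yf := by
      simpa [l₂, l₁, yf] using congrArg (· ≫ prod.fst) c
    have c2 : pullback.fst l₂ (l₁ i) ≫ (chartObj x₂).φ.left =
        pullback.snd l₂ (l₁ i) ≫ s i ≫ (chartObj x₁).φ.left := by
      simpa [l₂, l₁] using congrArg (· ≫ prod.snd) c
    let j : pullback l₂ (l₁ i) ⟶ Q := pullback.lift _ _ c1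
    have hj1 : j ≫ pullback.fst (chartπ x₂) yf = pullback.fst l₂ (l₁ i) := pullback.lift_fst _ _ _
    have hj2 : j ≫ pullback.snd (chartπ x₂) yf = pullback.snd l₂ (l₁ i) := pullback.lift_snd _ _ _
    have sq : IsPullback (pullback.fst l₂ (l₁ i) ≫ (chartObj x₂).φ.left) j (prod.lift (𝟙 _) (𝟙 _)) t := by
      refine Glue.isPullback_of_points (prod.hom_ext ?_ ?_) fun W p q hpq => ?_
      · simp only [t, Category.assoc, prod.lift_fst, Category.comp_id]
        rw [reassoc_of% hj1]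
      · simp only [t, Category.assoc, prod.lift_snd, Category.comp_id]
        rw [c2, reassoc_of% hj2]
      · have e1 : p = q ≫ pullback.fst (chartπ x₂) yf ≫ (chartObj x₂).φ.left := by
          simpa [t] using congrArg (· ≫ prod.fst) hpq
        have e2 : p = q ≫ pullback.snd (chartπ x₂) yf ≫ s i ≫ (chartObj x₁).φ.left := by
          simpa [t] using congrArg (· ≫ prod.snd) hpq
        have hw : (q ≫ pullback.fst (chartπ x₂) yf) ≫ l₂ = (q ≫ pullback.snd (chartπ x₂) yf) ≫ l₁ i :=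
          prod.hom_ext (by simp [l₂, l₁, yf, pullback.condition])
            (by simp only [l₂, l₁, Category.assoc, prod.lift_snd]; exact e1.symm.trans e2)
        refine ⟨pullback.lift _ _ hw, ⟨?_, pullback.hom_ext ?_ ?_⟩, fun l hl => pullback.hom_ext ?_ ?_⟩
        · rw [reassoc_of% (pullback.lift_fst _ _ hw)]; exact e1.symm
        · rw [Category.assoc, hj1, pullback.lift_fst]
        · rw [Category.assoc, hj2, pullback.lift_snd]
        · rw [pullback.lift_fst, ← hl.2, Category.assoc, hj1]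
        · rw [pullback.lift_snd, ← hl.2, Category.assoc, hj2]
    have hR : AlgSp.IsAlgSpace (pullback l₂ (l₁ i)) := Groth.Agent.AlgSp.isAlgSpace_of_isPullback' hXX hX hQ sq
    refine ⟨hR, ?_⟩
    rw [← hj2]
    exact hcomp _ _ (hbc hX hXX hR hQ _ _ _ _ sq hΔ)
      (good_affine.bc hA₂ (isAlgSpace_yon _) hQ (isAlgSpace_yon _) _ _ _ _ (IsPullback.of_hasPullback (chartπ x₂) yf) hP₂)
  have hpieces : ∀ i, AlgSp.IsAlgSpace (pullback l₂ (l₁ i)) := fun i => (hpiece i).1
  have hsq' : ∀ i, IsPullback (top i) (pullback.snd l₂ (l₁ i)) (πI ≫ eU.inv) ((AlgSp.yon S).map (f i)) := fun i =>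
    (hsq i).of_iso (Iso.refl _) (Iso.refl _) (Iso.refl _) eU.symm ((Category.comp_id _).trans (Category.id_comp _).symm)
      ((Category.comp_id _).trans (Category.id_comp _).symm) (Category.id_comp _).symm (by
        simp only [Iso.refl_hom, Category.id_comp]
        change (AlgSp.yon S).map (f i ≫ eqToHom _) ≫ eU.inv = _
        rw [Functor.map_comp, Category.assoc]
        exact (congrArg (_ ≫ ·) eU.hom_inv_id).trans (Category.comp_id _))
  have hI : AlgSp.IsAlgSpace (isom x₁ x₂) :=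
    Groth.Agent.AlgSpB.Art.isAlgSpace_of_fppfCover (isAlgSpace_yon _)
      (fun i => (AlgSp.yon S).obj (V i)) (fun i => isAlgSpace_yon _) (fun i => (AlgSp.yon S).map (f i))
      (fun i => (hcov.1 i).1) (fun i => (hcov.1 i).2) hcov.2 (πI ≫ eU.inv)
      (fun i => (hpieces i).of_iso (hsq' i).isoPullback)
  refine ⟨⟨isom x₁ x₂, hI⟩, e, he, ?_⟩
  have h1 : P (πI ≫ eU.inv) :=
    (hloc (fun i => (AlgSp.yon S).obj (V i)) _ (isAlgSpace_yon _) (fun i => isAlgSpace_yon _) hcov (πI ≫ eU.inv) hI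
      _ (fun i => pullback.snd l₂ (l₁ i)) top hpieces hsq').2 fun i => (hpiece i).2
  have sq : IsPullback (𝟙 _) πI (πI ≫ eU.inv) eU.inv := IsPullback.of_horiz_isIso ⟨Category.id_comp _⟩
  exact hbc hI (isAlgSpace_yon _) hI (isAlgSpace_yon _) _ _ _ _ sq h1

end

section

variable {S : Scheme.{u}}

theorem qaff_comp_affine ⦃A C D : AlgSp.Sp S⦄ (a : A ⟶ C) (b : C ⟶ D) (ha : AlgSp.IsQuasiAffineMor a)
    (hb : AlgSp.IsAffineMor b) : AlgSp.IsQuasiAffineMor (a ≫ b) := by
  intro Z hZ g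
  obtain ⟨W₁, i₁, f₁, sq₁, h₁⟩ := hb hZ g
  obtain ⟨W₂, i₂, f₂, sq₂, h₂⟩ := ha h₁ f₁
  exact ⟨W₂, i₂ ≫ i₁, f₂, by rw [Functor.map_comp]; exact sq₂.paste_vert sq₁, h₂⟩

theorem fppfLocal_qaff : AlgSp.IsLocalOnBase AlgSp.IsFppfCover (AlgSp.IsQuasiAffineMor (S := S)) :=
  fppfLocal_of_fpqc fun _ _ _ _ hY _ hg _ f hX _ p q _ sq =>
    ⟨fun hf i Z hZ z => by
      obtain ⟨W, j, fst, hW, hWq⟩ := hf hZ (z ≫ _)
      obtain ⟨r, hr₁, hr₂⟩ := (sq i).exists_lift fst ((AlgSp.yon S).map j ≫ z) (by rw [hW.w, Category.assoc])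
      exact ⟨W, j, r, IsPullback.of_right (by rw [hr₁]; exact hW) hr₂ (sq i), hWq⟩,
      AlgSpCov.isQuasiAffineMor_of_fpqc hY hg hX sq⟩

theorem isQuasiAffineMor_of_immersion {A C : AlgSp.Sp S} (a : A ⟶ C)
    (h : AlgSp.RepWith (@IsImmersion ⊓ @QuasiCompact) a) : AlgSp.IsQuasiAffineMor a := by
  intro Z hZ g
  refine ⟨h.1.pullback g, h.1.snd g, h.1.fst g, h.1.isPullback g, ?_⟩
  obtain ⟨h1, h2⟩ := h.2 _ _ _ (h.1.isPullback g)
  have : IsImmersion (h.1.snd g).left := h1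
  have : QuasiCompact (h.1.snd g).left := h2
  have := hZ
  have : CompactSpace (h.1.pullback g).left :=
    (quasiCompact_iff_compactSpace (h.1.snd g).left).1 inferInstance
  exact Scheme.IsQuasiAffine.of_isImmersion (h.1.snd g).left

variable {G : Over S} [GrpObj G] [IsAffineHom G.hom]

theorem diag_left (X : Over S) : (lift (𝟙 X) (𝟙 X) : X ⟶ X ⊗ X).left = pullback.diagonal X.hom := by
  apply pullback.hom_ext
  · rw [pullback.diagonal_fst]
    exact congrArg CommaMorphism.left (lift_fst (𝟙 X) (𝟙 X))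
  · rw [pullback.diagonal_snd]
    exact congrArg CommaMorphism.left (lift_snd (𝟙 X) (𝟙 X))

theorem prodLift_iff {P : MorphismProperty (AlgSp.Sp S)} (hP : StableBC P) (X : Over S) :
    P (prod.lift (𝟙 ((AlgSp.yon S).obj X)) (𝟙 ((AlgSp.yon S).obj X))) ↔
      P ((AlgSp.yon S).map (lift (𝟙 X) (𝟙 X))) := by
  obtain ⟨i, hi⟩ := QuotEt.exists_prod_iso X
  have := hP.of_respects
  have hXX : AlgSp.IsAlgSpace ((AlgSp.yon S).obj X ⨯ (AlgSp.yon S).obj X) :=
    (AlgSp.IsAlgSpace.yon_obj _).of_iso i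
  constructor
  · exact fun h => hP (AlgSp.IsAlgSpace.yon_obj X) hXX (AlgSp.IsAlgSpace.yon_obj X) (AlgSp.IsAlgSpace.yon_obj _)
      _ i.hom _ (𝟙 _) (IsPullback.of_horiz_isIso ⟨by rw [Category.id_comp, hi]⟩) h
  · exact fun h => hP (AlgSp.IsAlgSpace.yon_obj X) (AlgSp.IsAlgSpace.yon_obj _) (AlgSp.IsAlgSpace.yon_obj X) hXX
      _ i.inv _ (𝟙 _) (IsPullback.of_horiz_isIso ⟨by
        rw [Category.id_comp, ← hi, Category.assoc, i.hom_inv_id, Category.comp_id]⟩) h

theorem quot_diag {X : Over S} {aX : AlgGrp.Action G X} {P : MorphismProperty (AlgSp.Sp S)} (hbc : StableBC P)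
    (hcomp : ∀ ⦃A C D : AlgSp.Sp S⦄ (a : A ⟶ C) (b : C ⟶ D), P a → AlgSp.IsAffineMor b → P (a ≫ b))
    (hloc : AlgSp.IsLocalOnBase AlgSp.IsFppfCover P) (h0 : P ((AlgSp.yon S).map (lift (𝟙 X) (𝟙 X)))) :
    AlgSt.RepByAlgSpWith P (diag (toSelf (AlgSt.QuotSt Scheme.fppfPrecoverage G aX))) := by
  obtain ⟨i, hi⟩ := QuotEt.exists_prod_iso X
  have key := spQuot_diag_of_affine (S := S) (G := (QuotBr.toH S).obj G) (X := (QuotBr.toH S).obj X)
    (aX := QuotBr.actH aX) hbc hcomp hloc QuotBr.isAlgSpace_hS (QuotBr.isAlgSpace_toH G)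
    QuotBr.isAffineMor_hom (AlgSp.IsAlgSpace.yon_obj _) ((AlgSp.IsAlgSpace.yon_obj _).of_iso i)
    ((prodLift_iff hbc X).2 h0)
  exact (diag_iff_of_equiv_source' _ (f' := toSelf (AlgSt.QuotSt Scheme.fppfPrecoverage G aX)) (QuotBr.E aX)
    QuotBr.isEquivOver_E (Iso.refl _)).1 key

/-- Quasi-affine diagonal of a quotient stack. -/
theorem quot_diag_quasiAffine {X : Over S} [QuasiSeparated X.hom] (aX : AlgGrp.Action G X) :
    AlgSt.RepByAlgSpWith AlgSp.IsQuasiAffineMor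
      (diag (toSelf (AlgSt.QuotSt Scheme.fppfPrecoverage G aX))) := by
  refine quot_diag stableBC_quasiAffine qaff_comp_affine fppfLocal_qaff
    (isQuasiAffineMor_of_immersion _ ((AlgSp.repWith_yon_map_iff _ _).2 ?_))
  rw [diag_left]
  exact ⟨inferInstance, inferInstance⟩

/-- A quotient stack has affine diagonal as soon as the space has. -/
theorem quot_diag_affine {X : Over S} (aX : AlgGrp.Action G X) (hX : IsAffineHom (pullback.diagonal X.hom)) :
    AlgSt.RepByAlgSpWith AlgSp.IsAffineMor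
      (diag (toSelf (AlgSt.QuotSt Scheme.fppfPrecoverage G aX))) := by
  refine quot_diag good_affine.bc ?_ QuotBr.fppfLocal_affine
    ((Groth.Agent.AlgSp.isAffineMor_iff _).2 ((AlgSp.repWith_yon_map_iff _ _).2 (by rw [diag_left]; exact hX)))
  intro A C D a b ha hb Z hZ g
  obtain ⟨W₁, i₁, f₁, sq₁, h₁⟩ := hb hZ g
  obtain ⟨W₂, i₂, f₂, sq₂, h₂⟩ := ha h₁ f₁
  exact ⟨W₂, i₂ ≫ i₁, f₂, by rw [Functor.map_comp]; exact sq₂.paste_vert sq₁, h₂⟩

end

end Groth.Agent.ResPropLib
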